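import Cfsg.Agent.S4480
import Cfsg.Agent.Lib.Invol.ZStarBasic
import Cfsg.Agent.Lib.Char.AbelianIndexBound

/-!
The order of a group with a Klein four Sylow 2-subgroup that is its own centraliser up to order 4, one class of
involutions and involution centralisers of order 12.
-/

set_option autoImplicit false

namespace CfsgLib.UFourType

open Cfsg

/-- A square of a degree is at most the group order. -/
theorem charDegree_sq_le {X : Type*} [Group X] [Fintype X] (χ : IrrCharacter X) :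
    charDegree (χ : X → ℂ) ^ 2 ≤ Nat.card X := by
  classical
  have h := CfsgLib.Char.sum_degree_sq (G := X)
  rw [Finset.sum_congr rfl fun (ψ : IrrCharacter X) _ => show (ψ : X → ℂ) 1 ^ 2 =
    ((charDegree (ψ : X → ℂ) ^ 2 : ℕ) : ℂ) by
      rw [CfsgLib.Blocks.charDegree_eq (CfsgLib.Char.isCharacter_of_isIrr ψ.2)]; push_cast; rfl,
    ← Nat.cast_sum] at h
  exact (Finset.single_le_sum (f := fun ψ : IrrCharacter X => charDegree (ψ : X → ℂ) ^ 2)
    (fun _ _ => Nat.zero_le _) (Finset.mem_univ χ)).trans (le_of_eq (by exact_mod_cast h))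

theorem order_table : ∀ a < 45, ∀ b < 45, 2 ≤ a → 2 ≤ b → a % 4 = 3 → b % 4 = 3 →
    ∀ N < 163, N % 2 = 1 → N * ((a + b) * ((a - 1) * (b - 1))) = 72 * ((a + b - 1) * (a * b)) →
      N = 91 ∨ N = 135 := by
  intro a ha b hb _ _ ha4 hb4
  interval_cases a <;> first | omega | (interval_cases b <;> first | omega | (intro N _ _ h; norm_num at h ⊢; omega))

/-- The possible orders. -/
theorem order_cases {X : Type*} [Group X] [Finite X] (P : Sylow 2 X) (hP : IsKleinFour (P : Subgroup X))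
    (hone : ∀ s t : X, orderOf s = 2 → orderOf t = 2 → IsConj s t) {J : X} (hJ : J ∈ (P : Subgroup X))
    (hJ2 : orderOf J = 2) (hcJ : Nat.card (Subgroup.centralizer ({J} : Set X)) = 12)
    (hcP : Nat.card (Subgroup.centralizer ((P : Subgroup X) : Set X)) = 4) :
    Nat.card X = 324 ∨ Nat.card X = 660 ∨ Nat.card X = 1092 ∨ Nat.card X = 1620 := by
  classical
  let _ := Fintype.ofFinite X
  obtain ⟨M, hM⟩ := CfsgLib.Invol.exists_isPModular 2 Nat.prime_two
  haveI := hM.2.1
  haveI : Fact (Nat.Prime 2) := ⟨Nat.prime_two⟩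
  obtain ⟨ζ₂, ζ₃, ζ₄, ε, hε, h1, h2, h12, h13, h23, hB, hv, d1, d2, d3, -⟩ :=
    CfsgLib.Blocks.klein_principal_block hM P hP hone
  have h3 : (ζ₄ : X → ℂ) ≠ (fun _ => 1) := fun h => by
    have := (hv J hJ2).2.2
    rw [h] at this
    norm_num at this
  obtain ⟨v1, v2, v3⟩ := hv J hJ2
  -- the group data
  set g₀ := Nat.card X / 4 with hg₀def
  have h4 : Nat.card (P : Subgroup X) = 4 := hP.card_four
  have hdvd : 4 ∣ Nat.card X := h4 ▸ Subgroup.card_subgroup_dvd_card _
  have hG : Nat.card X = 4 * g₀ := (Nat.mul_div_cancel' hdvd).symm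
  have hg₀ : Odd g₀ := by
    have hi := P.not_dvd_index
    have h5 := Subgroup.card_mul_index (P : Subgroup X)
    rw [h4, hG] at h5
    rw [Nat.eq_of_mul_eq_mul_left (by norm_num) h5] at hi
    exact Nat.odd_iff.2 (by omega)
  have hnc : ¬ ∃ N : Subgroup X, N.Normal ∧ Nat.card N = g₀ := by
    rintro ⟨N, hN, hcard⟩
    obtain ⟨K, hK, hKJ⟩ : ∃ K : X, orderOf K = 2 ∧ K ∈ (P : Subgroup X) ∧ K ≠ J := by
      haveI := hP
      obtain ⟨x, y, hx, hy, hxy⟩ : ∃ x y : ↥(P : Subgroup X), x ≠ 1 ∧ y ≠ 1 ∧ x ≠ y := by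
        by_contra hcon
        push Not at hcon
        have hsub : (Finset.univ : Finset ↥(P : Subgroup X)) ⊆ {1, ⟨J, hJ⟩} := fun x _ => by
          by_cases hx : x = 1
          · simp [hx]
          simp [hcon x ⟨J, hJ⟩ hx (fun h => by
            have := congrArg Subtype.val h; simp only [OneMemClass.coe_one] at this
            rw [this, orderOf_one] at hJ2; omega)]
        have := (Finset.card_le_card hsub).trans Finset.card_le_two
        rw [Finset.card_univ, ← Nat.card_eq_fintype_card, h4] at this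
        omega
      have key : ∀ x : ↥(P : Subgroup X), x ≠ 1 → orderOf (x : X) = 2 := fun x hx =>
        orderOf_eq_prime (by rw [pow_two]; exact congrArg Subtype.val (IsKleinFour.mul_self x))
          fun h => hx (Subtype.ext h)
      by_cases hxJ : (x : X) = J
      · exact ⟨y, key y hy, y.2, fun e => hxy (Subtype.ext (hxJ.trans e.symm))⟩
      · exact ⟨x, key x hx, x.2, hxJ⟩
    obtain ⟨c, hc⟩ := isConj_iff.1 (hone J K hJ2 hK)
    have hmem : K * J⁻¹ ∈ N := by
      rw [← hc, ← QuotientGroup.eq_one_iff, QuotientGroup.mk_mul, QuotientGroup.mk_mul, QuotientGroup.mk_mul,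
        QuotientGroup.mk_inv, QuotientGroup.mk_inv]
      have hi : N.index = 4 := by
        have h5 := Subgroup.card_mul_index N
        rw [hcard, hG, mul_comm] at h5
        exact Nat.eq_of_mul_eq_mul_right hg₀.pos h5
      have hc2 := (IsPGroup.isMulCommutative_of_card_eq_prime_sq (p := 2) (G := X ⧸ N) (by rw [← Subgroup.index, hi]; norm_num)).is_comm.comm
      rw [hc2 (c : X ⧸ N), mul_inv_cancel_right, mul_inv_cancel]
    have hd2 : orderOf (K * J⁻¹) = 2 := by
      haveI := hP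
      refine orderOf_eq_prime ?_ fun h => hKJ.2 (mul_inv_eq_one.1 h)
      rw [pow_two]
      exact congrArg Subtype.val (IsKleinFour.mul_self (⟨_, mul_mem hKJ.1 (inv_mem hJ)⟩ : ↥(P : Subgroup X)))
    have h6 := Subgroup.orderOf_dvd_natCard N hmem
    rw [hd2, hcard] at h6
    exact hg₀.not_two_dvd_nat h6
  have hεs : ((1 : ℤ) = 1 ∨ (1 : ℤ) = -1) ∧ (ε = 1 ∨ ε = -1) ∧ ((-1 : ℤ) = 1 ∨ (-1 : ℤ) = -1) :=
    ⟨Or.inl rfl, hε, Or.inr rfl⟩
  have hdist := And.intro h1 (And.intro h2 (And.intro h3 (And.intro h12 (And.intro h13 h23))))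
  have hval : (ζ₂ : X → ℂ) J = ((1 : ℤ) : ℂ) ∧ (ζ₃ : X → ℂ) J = (ε : ℂ) ∧ (ζ₄ : X → ℂ) J = ((-1 : ℤ) : ℂ) :=
    ⟨by simpa using v1, v2, by simpa using v3⟩
  rcases hε with rfl | rfl
  · obtain ⟨m, hm1, hm2⟩ := Cfsg.Agent.S4480.result M hM g₀ hg₀ hG hnc P J hJ hJ2 ζ₂ ζ₃ ζ₄ 1 1 (-1) hB hdist hεs hval
      (by norm_num) rfl
    rw [hcJ, hcP] at hm1
    rw [hcP] at hm2
    generalize charDegree (ζ₄ : X → ℂ) = q at hm1 hm2 d3
    have hm : m * (q + 1) = 12 := by
      have : 4 * (m * (q + 1)) = 4 * 12 := by rw [hm1]; ring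
      omega
    have hq : q ≤ 11 := by
      have := Nat.le_of_dvd (by norm_num) (Dvd.intro_left m hm)
      omega
    have hm' : m ≤ 12 := Nat.le_of_dvd (by norm_num) (Dvd.intro _ hm)
    interval_cases q
    all_goals first
      | omega
      | (interval_cases m
         all_goals first | omega | (norm_num at hm hm2 ⊢; omega))
  · obtain ⟨hrel, hf⟩ := CfsgLib.Blocks.klein_order_facts hM g₀ hg₀ hG hnc P hJ hJ2 ζ₂ ζ₃ ζ₄ 1 (-1) (-1) hB hdist
      hεs hval
    rw [hcJ, hcP] at hf
    obtain ⟨N, hN⟩ := Subgroup.card_subgroup_dvd_card (Subgroup.centralizer ({J} : Set X))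
    rw [hcJ] at hN
    have s1 := charDegree_sq_le ζ₂
    have s2 := charDegree_sq_le ζ₃
    have s3 := charDegree_sq_le ζ₄
    generalize charDegree (ζ₂ : X → ℂ) = x at hrel hf s1 d1
    generalize charDegree (ζ₃ : X → ℂ) = a at hrel hf s2 d2
    generalize charDegree (ζ₄ : X → ℂ) = b at hrel hf s3 d3
    have ha4 : a % 4 = 3 := by omega
    have hb4 : b % 4 = 3 := by omega
    have hx : x = a + b - 1 := by omega
    have key : N * ((a + b) * ((a - 1) * (b - 1))) = 72 * ((a + b - 1) * (a * b)) := by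
      have hx1 : (x : ℚ) = (a : ℚ) + b - 1 := by rw [hx, Nat.cast_sub (by omega)]; push_cast; ring
      have ha0 : (a : ℚ) ≠ 0 := Nat.cast_ne_zero.2 (by omega)
      have hb0 : (b : ℚ) ≠ 0 := Nat.cast_ne_zero.2 (by omega)
      have hx0 : (x : ℚ) ≠ 0 := Nat.cast_ne_zero.2 (by omega)
      rw [hN] at hf
      push_cast at hf
      field_simp at hf
      have : ((N * ((a + b) * ((a - 1) * (b - 1))) : ℕ) : ℚ) = ((72 * ((a + b - 1) * (a * b)) : ℕ) : ℚ) := by
        push_cast [Nat.cast_sub (show 1 ≤ a by omega), Nat.cast_sub (show 1 ≤ b by omega),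
          Nat.cast_sub (show 1 ≤ a + b by omega)]
        rw [hx1] at hf
        linear_combination (1 / 16 : ℚ) * hf
      exact_mod_cast this
    have hNle : N ≤ 162 := by
      by_contra hcon
      have e1 : 2 * a ≤ 3 * (a - 1) := by omega
      have e2 : 2 * b ≤ 3 * (b - 1) := by omega
      have e3 := Nat.mul_le_mul e1 e2
      have e4 := Nat.mul_le_mul_left (a + b) e3
      have e5 : 0 < (a + b) * (a * b) := by
        have : 0 < a := by omega
        have : 0 < b := by omega
        positivity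
      have e6 : (a + b - 1) * (a * b) ≤ (a + b) * (a * b) := Nat.mul_le_mul_right _ (Nat.sub_le _ _)
      have e7 := Nat.mul_le_mul (show 163 ≤ N by omega) (le_refl ((a + b) * ((a - 1) * (b - 1))))
      nlinarith
    have hodd : N % 2 = 1 := by
      obtain ⟨k, hk⟩ := hg₀
      omega
    have ha45 : a < 45 := by nlinarith
    have hb45 : b < 45 := by nlinarith
    rcases order_table a ha45 b hb45 (by omega) (by omega) ha4 hb4 N (by omega) hodd key with h | h <;> omega

end CfsgLib.UFourType
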